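import Groth.Agent.Lib.OX.ProjClosed
import Groth.Agent.Lib.OX.HomTri
import Groth.Agent.Lib.OX.Adjunction
import Groth.Agent.Lib.OX.LTensorCx
import Groth.Agent.Lib.OX.RRComp
import Groth.Agent.Lib.OX.RpushQCoh
import Groth.Agent.Lib.OX.TensorInjective

/-! # Tensoring with a direct image along a closed immersion -/

set_option autoImplicit false
set_option maxHeartbeats 1000000
set_option linter.style.haveILetI false
set_option backward.isDefEq.respectTransparency false
universe u

open CategoryTheory CategoryTheory.Limits AlgebraicGeometry HomologicalComplex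
open DerivedCategory (Q Qh)

attribute [local instance] HasDerivedCategory.standard

noncomputable section

namespace GrothLib.FMId25

open GrothLib.OX

variable {X Y : Scheme.{u}}

/-- `Q` read through the homotopy category. -/
def qIso (X : Scheme.{u}) : HomotopyCategory.quotient X.Modules (ComplexShape.up ℤ) ⋙ Qh ≅ Q :=
  DerivedCategory.quotientCompQhIso X.Modules

/-- The derived pullback compared with the termwise one, on complexes. -/
def lpullCxCounit (f : X ⟶ Y) [DCoh.HasLpull f] : Q ⋙ DCoh.Lpull f ⟶ pullCxF f ⋙ Q :=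
  Functor.whiskerRight (qIso Y).inv (DCoh.Lpull f) ≫ (Functor.associator _ _ _).hom ≫
    Functor.whiskerLeft _ ((DCoh.pullKh f).totalLeftDerivedCounit Qh
      (HomotopyCategory.quasiIso Y.Modules (ComplexShape.up ℤ))) ≫
    (Functor.associator _ _ _).inv ≫
    Functor.whiskerRight ((Scheme.Modules.pullback f).mapHomotopyCategoryFactors (ComplexShape.up ℤ)).hom Qh ≫
    (Functor.associator _ _ _).hom ≫ Functor.whiskerLeft _ (qIso X).hom

theorem isIso_lpullCxCounit_app (f : X ⟶ Y) [DCoh.HasLpull f] {P : CochainComplex Y.Modules ℤ}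
    (hP : DCoh.IsKFlat P) : IsIso ((lpullCxCounit f).app P) := by
  have := (pullKh_resolvable f).isIso_app_of_isLeftDerivedFunctor _
    ((DCoh.pullKh f).totalLeftDerivedCounit Qh (HomotopyCategory.quasiIso Y.Modules (ComplexShape.up ℤ)))
    (Q := (HomotopyCategory.quotient _ _).obj P) hP
  simp only [lpullCxCounit, NatTrans.comp_app, Functor.whiskerRight_app, Functor.whiskerLeft_app,
    Functor.associator_hom_app, Functor.associator_inv_app, Category.id_comp]
  infer_instance

section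

variable (f : X ⟶ Y) (A : CochainComplex X.Modules ℤ)

/-- The projection map, as a natural transformation in the complex downstairs. -/
def projNat : DCoh.tensorCxQ ((pushCxF f).obj A) ⟶ pullCxF f ⋙ DCoh.tensorCxQ A ⋙ SiteDer.Rres (rmor f) where
  app P := (qIso Y).inv.app _ ≫ projD f P A ≫ (SiteDer.Rres (rmor f)).map ((qIso X).hom.app _)
  naturality P P' q := by
    have h1 : Q.map (((DCoh.tensorCx (X := Y)).map q).app ((pushCxF f).obj A)) ≫ (qIso Y).inv.app _ =
        (qIso Y).inv.app _ ≫ Qh.map ((HomotopyCategory.quotient _ _).map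
          (((DCoh.tensorCx (X := Y)).map q).app ((pushCxF f).obj A))) :=
      (qIso Y).inv.naturality _
    have h2 : Qh.map ((HomotopyCategory.quotient _ _).map
          (((DCoh.tensorCx (X := X)).map ((pullCxF f).map q)).app A)) ≫ (qIso X).hom.app _ =
        (qIso X).hom.app _ ≫ Q.map (((DCoh.tensorCx (X := X)).map ((pullCxF f).map q)).app A) :=
      (qIso X).hom.naturality _
    refine (reassoc_of% h1) _ |>.trans ?_
    refine (congrArg (_ ≫ ·) ((reassoc_of% (projD_natural f q A)) _)).trans ?_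
    refine (congrArg (fun t => _ ≫ projD f P A ≫ t) (((SiteDer.Rres (rmor f)).map_comp _ _).symm.trans
      ((congrArg (SiteDer.Rres (rmor f)).map h2).trans ((SiteDer.Rres (rmor f)).map_comp _ _)))).trans ?_
    exact ((Category.assoc _ _ _).trans (congrArg (_ ≫ ·) (Category.assoc _ _ _))).symm

instance isIso_projNat [IsClosedImmersion f] : IsIso (projNat f A) := by
  have : ∀ P, IsIso ((projNat f A).app P) := fun P => by
    have := isIso_projD_closed f P A
    dsimp only [projNat]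
    infer_instance
  exact NatIso.isIso_of_isIso_app _

variable [IsClosedImmersion f] [DCoh.HasLpull f] [DCoh.HasLTensorCx A] [DCoh.HasRpush f]

/-- The comparison exhibiting `Rf_*(Lf^*(-) ⊗ᴸ A)` as the derived functor of `- ⊗ f_*A`. -/
def compCounit : Q ⋙ DCoh.Lpull f ⋙ DCoh.LTensorCx A ⋙ DCoh.Rpush f ⟶ DCoh.tensorCxQ ((pushCxF f).obj A) :=
  Functor.whiskerRight (lpullCxCounit f) (DCoh.LTensorCx A ⋙ DCoh.Rpush f) ≫
    Functor.whiskerLeft (pullCxF f) (Functor.whiskerRight ((DCoh.tensorCxQ A).totalLeftDerivedCounit Q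
        (HomologicalComplex.quasiIso X.Modules (ComplexShape.up ℤ))) (DCoh.Rpush f)) ≫
    Functor.whiskerLeft (pullCxF f) (Functor.whiskerLeft (DCoh.tensorCxQ A) (rpushIsoRres f).hom) ≫
    inv (projNat f A)

theorem isIso_compCounit_app {P : CochainComplex Y.Modules ℤ} (hP : DCoh.IsKFlat P) :
    IsIso ((compCounit f A).app P) := by
  have := isIso_lpullCxCounit_app f hP
  have := (cxResolvable_tensor A).isIso_app_of_isLeftDerivedFunctor (DCoh.LTensorCx A)
    ((DCoh.tensorCxQ A).totalLeftDerivedCounit Q (HomologicalComplex.quasiIso X.Modules (ComplexShape.up ℤ)))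
    (isKFlat_pullback f hP)
  simp only [compCounit, NatTrans.comp_app, Functor.whiskerRight_app, Functor.whiskerLeft_app, Functor.comp_map]
  infer_instance

/-- **The projection formula for a closed immersion, as functors.** -/
theorem nonempty_ltensor_push [DCoh.HasLTensorCx ((pushCxF f).obj A)] :
    Nonempty (DCoh.LTensorCx ((pushCxF f).obj A) ≅ DCoh.Lpull f ⋙ DCoh.LTensorCx A ⋙ DCoh.Rpush f) := by
  have := (cxResolvable_tensor ((pushCxF f).obj A)).isLeftDerivedFunctor
    (DCoh.Lpull f ⋙ DCoh.LTensorCx A ⋙ DCoh.Rpush f) (compCounit f A) fun P hP => isIso_compCounit_app f A hP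
  exact ⟨Functor.leftDerivedUnique _ _ ((DCoh.tensorCxQ ((pushCxF f).obj A)).totalLeftDerivedCounit Q
    (HomologicalComplex.quasiIso Y.Modules (ComplexShape.up ℤ))) (compCounit f A)
    (HomologicalComplex.quasiIso Y.Modules (ComplexShape.up ℤ))⟩

end

/-- Derived pullbacks along equal morphisms. -/
def lpullCongr {f g : X ⟶ Y} (h : f = g) [DCoh.HasLpull f] [DCoh.HasLpull g] : DCoh.Lpull f ≅ DCoh.Lpull g :=
  eqToIso (by subst h; rfl)

/-- Derived direct images along equal morphisms. -/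
def rpushCongr {f g : X ⟶ Y} (h : f = g) [DCoh.HasRpush f] [DCoh.HasRpush g] : DCoh.Rpush f ≅ DCoh.Rpush g :=
  eqToIso (by subst h; rfl)

/-- Derived direct images compose. -/
def rpushComp {Z : Scheme.{u}} (f : X ⟶ Y) (g : Y ⟶ Z) [DCoh.HasRpush f] [DCoh.HasRpush g] [DCoh.HasRpush (f ≫ g)] :
    DCoh.Rpush f ⋙ DCoh.Rpush g ≅ DCoh.Rpush (f ≫ g) :=
  Functor.isoWhiskerRight (rpushIsoRres f) _ ≪≫ Functor.isoWhiskerLeft _ (rpushIsoRres g) ≪≫ RRCompIso f g ≪≫
    (rpushIsoRres (f ≫ g)).symm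

/-- Derived pullback along the identity. -/
theorem nonempty_lpull_id (X : Scheme.{u}) [DCoh.HasLpull (𝟙 X)] :
    Nonempty (DCoh.Lpull (𝟙 X) ≅ 𝟭 (DCoh.D X)) := by
  let e : (Scheme.Modules.pullback (𝟙 X)).mapHomotopyCategory (ComplexShape.up ℤ) ≅ 𝟭 _ :=
    CategoryTheory.Quotient.natIsoLift _
      ((Scheme.Modules.pullback (𝟙 X)).mapHomotopyCategoryFactors (ComplexShape.up ℤ) ≪≫
        Functor.isoWhiskerRight (NatIso.mapHomologicalComplex (Scheme.Modules.pullbackId X) (ComplexShape.up ℤ) ≪≫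
          Functor.mapHomologicalComplexIdIso X.Modules (ComplexShape.up ℤ)) _ ≪≫ Functor.leftUnitor _ ≪≫
        (Functor.rightUnitor _).symm)
  let α : Qh ⋙ 𝟭 (DCoh.D X) ⟶ DCoh.pullKh (𝟙 X) :=
    ((Functor.rightUnitor Qh) ≪≫ (Functor.leftUnitor Qh).symm ≪≫ (Functor.isoWhiskerRight e Qh).symm).hom
  have := (pullKh_resolvable (𝟙 X)).isLeftDerivedFunctor (𝟭 (DCoh.D X)) α fun P _ => inferInstance
  exact ⟨Functor.leftDerivedUnique _ _ ((DCoh.pullKh (𝟙 X)).totalLeftDerivedCounit Qh
    (HomotopyCategory.quasiIso X.Modules (ComplexShape.up ℤ))) α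
    (HomotopyCategory.quasiIso X.Modules (ComplexShape.up ℤ))⟩

/-- Derived direct image along the identity. -/
theorem nonempty_rpush_id (X : Scheme.{u}) [DCoh.HasRpush (𝟙 X)] : Nonempty (DCoh.Rpush (𝟙 X) ≅ 𝟭 (DCoh.D X)) := by
  haveI : DCoh.HasLpull (𝟙 X) := hasLpull _
  obtain ⟨adj⟩ := nonempty_lpullAdj (𝟙 X)
  obtain ⟨i⟩ := nonempty_lpull_id X
  exact ⟨(adj.ofNatIsoLeft i).rightAdjointUniq Adjunction.id⟩

/-- Tensoring with a module in degree zero, naturally in the complex. -/
def singleTensorNatIso (F : X.Modules) :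
    ((DCoh.tensorBi (X := X)).flip.obj F).mapHomologicalComplex (ComplexShape.up ℤ) ≅
      (DCoh.tensorCx (X := X)).flip.obj ((single X.Modules (ComplexShape.up ℤ) 0).obj F) :=
  NatIso.ofComponents (fun L => singleIso L F) (fun {L L'} φ => by
    refine HomologicalComplex.hom_ext _ _ fun n => ?_
    change ((DCoh.tensorBi (X := X)).map (φ.f n)).app F ≫
        ((DCoh.tensorBi (X := X)).obj (L'.X n)).map (singleObjXSelf (ComplexShape.up ℤ) 0 F).inv ≫
          ιMapBifunctor L' _ (DCoh.tensorBi (X := X)) (ComplexShape.up ℤ) n 0 n (add_zero n) =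
      (((DCoh.tensorBi (X := X)).obj (L.X n)).map (singleObjXSelf (ComplexShape.up ℤ) 0 F).inv ≫
          ιMapBifunctor L _ (DCoh.tensorBi (X := X)) (ComplexShape.up ℤ) n 0 n (add_zero n)) ≫
        (mapBifunctorMap φ (𝟙 _) (DCoh.tensorBi (X := X)) (ComplexShape.up ℤ)).f n
    rw [Category.assoc, ι_mapBifunctorMap, id_f, CategoryTheory.Functor.map_id, Category.id_comp,
      ← reassoc_of% ((DCoh.tensorBi (X := X)).map (φ.f n)).naturality])

/-- Tensoring with the structure sheaf is the identity. -/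
theorem nonempty_ltensorCx_structure (X : Scheme.{u})
    [DCoh.HasLTensorCx ((single X.Modules (ComplexShape.up ℤ) 0).obj (Coh.structureModule X))] :
    Nonempty (DCoh.LTensorCx ((single X.Modules (ComplexShape.up ℤ) 0).obj (Coh.structureModule X)) ≅
      𝟭 (DCoh.D X)) := by
  let u : (DCoh.tensorBi (X := X)).flip.obj (Coh.structureModule X) ≅ 𝟭 X.Modules :=
    (tensorBraiding (X := X)).app _ ≪≫ tensorUnitNatIso
  let S := (single X.Modules (ComplexShape.up ℤ) 0).obj (Coh.structureModule X)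
  let α : Q ⋙ 𝟭 (DCoh.D X) ⟶ DCoh.tensorCxQ S :=
    (Functor.rightUnitor Q ≪≫ (Functor.leftUnitor Q).symm ≪≫
      Functor.isoWhiskerRight ((Functor.mapHomologicalComplexIdIso X.Modules (ComplexShape.up ℤ)).symm ≪≫
        (NatIso.mapHomologicalComplex u (ComplexShape.up ℤ)).symm ≪≫
        singleTensorNatIso (Coh.structureModule X)) Q).hom
  have := (cxResolvable_tensor S).isLeftDerivedFunctor (𝟭 (DCoh.D X)) α fun A _ => inferInstance
  exact ⟨Functor.leftDerivedUnique _ _ ((DCoh.tensorCxQ S).totalLeftDerivedCounit Q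
    (HomologicalComplex.quasiIso X.Modules (ComplexShape.up ℤ))) α
    (HomologicalComplex.quasiIso X.Modules (ComplexShape.up ℤ))⟩

/-- **The Fourier–Mukai functor of the diagonal is the identity.** -/
theorem nonempty_diagonal_id {P : Scheme.{u}} (Δ : X ⟶ P) (p q : P ⟶ X) [IsClosedImmersion Δ]
    (hp : Δ ≫ p = 𝟙 X) (hq : Δ ≫ q = 𝟙 X) (K : CochainComplex P.Modules ℤ)
    (hK : Q.obj K ≅ DCoh.inD P ((Scheme.Modules.pushforward Δ).obj (Coh.structureModule X)))
    [DCoh.HasLpull p] [DCoh.HasLTensorCx K] [DCoh.HasRpush q] :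
    Nonempty (DCoh.Lpull p ⋙ DCoh.LTensorCx K ⋙ DCoh.Rpush q ≅ 𝟭 (DCoh.D X)) := by
  let O₀ := (single X.Modules (ComplexShape.up ℤ) 0).obj (Coh.structureModule X)
  let K₀ := (pushCxF Δ).obj O₀
  haveI := hasLTensorCx K₀
  haveI := hasLTensorCx O₀
  haveI := hasLpull Δ
  haveI := hasLpull (Δ ≫ p)
  haveI := hasLpull (𝟙 X)
  haveI : DCoh.HasRpush Δ := KInj.hasRightDerivedFunctor _
  haveI : DCoh.HasRpush (Δ ≫ q) := KInj.hasRightDerivedFunctor _
  haveI : DCoh.HasRpush (𝟙 X) := KInj.hasRightDerivedFunctor _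
  let i : Q.obj K ≅ Q.obj K₀ := hK ≪≫
    ((DerivedCategory.singleFunctorIsoCompQ P.Modules 0).app _) ≪≫
    Q.mapIso ((HomologicalComplex.singleMapHomologicalComplex (Scheme.Modules.pushforward Δ)
      (ComplexShape.up ℤ) 0).app (Coh.structureModule X)).symm
  obtain ⟨c⟩ := nonempty_ltensorCx_congr_of_iso i
  obtain ⟨w⟩ := nonempty_ltensor_push Δ O₀
  obtain ⟨o⟩ := nonempty_ltensorCx_structure X
  obtain ⟨l⟩ := nonempty_lpull_id X
  obtain ⟨r⟩ := nonempty_rpush_id X
  exact ⟨Functor.isoWhiskerLeft _ (Functor.isoWhiskerRight (c ≪≫ w ≪≫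
      Functor.isoWhiskerLeft _ (Functor.isoWhiskerRight o _ ≪≫ Functor.leftUnitor _)) _ ≪≫
      Functor.associator _ _ _ ≪≫ Functor.isoWhiskerLeft _ (rpushComp Δ q ≪≫ rpushCongr hq ≪≫ r) ≪≫
      Functor.rightUnitor _) ≪≫ lpullCompIso Δ p ≪≫ lpullCongr hp ≪≫ l⟩

end GrothLib.FMId25
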